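import Groth.Prelude.Def_CohCx
import Groth.Agent.SiteCoh.Cohomology
import Mathlib.Algebra.Homology.HomotopyCategory.HomComplexSingle
import Mathlib.Algebra.Homology.HomotopyCategory.HomComplexCohomology
import Mathlib.Algebra.Homology.DerivedCategory.KInjective
import Mathlib.CategoryTheory.Functor.ReflectsIso.Balanced

/-! Hypercohomology presheaves of K-injective complexes are computed by sections. -/

set_option autoImplicit false
set_option backward.isDefEq.respectTransparency false
set_option linter.style.haveILetI false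

universe u

open CategoryTheory CategoryTheory.Limits Opposite CochainComplex.HomComplex

namespace Groth.Agent.CohDer1.HyperPush

variable {C : Type u} [SmallCategory C] {J : GrothendieckTopology C}
  [HasDerivedCategory.{u} (Sheaf J AddCommGrpCat.{u})]
  (I : CochainComplex (Sheaf J AddCommGrpCat.{u}) ℤ) (p : ℤ)

/-- The class in hypercohomology of a map out of a free sheaf killed by the differential. -/
noncomputable def cls (U : C) (f : CohCx.freeSheaf J U ⟶ I.X p) (hf : f ≫ I.d p (p + 1) = 0) :
    CohCx.HDU (DerivedCategory.Q.obj I) p U :=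
  DerivedCategory.Q.map
      (Cocycle.equivHomShift.symm (Cocycle.fromSingleMk (p := 0) f (zero_add p) (p + 1) rfl hf)) ≫
    (DerivedCategory.Q.commShiftIso p).hom.app I

lemma cls_precomp {U V : C} (g : V ⟶ U) (f : CohCx.freeSheaf J U ⟶ I.X p) (hf : f ≫ I.d p (p + 1) = 0) :
    cls I p V (CohCx.freeSheafMap J g ≫ f) (by rw [Category.assoc, hf, comp_zero]) =
      (DerivedCategory.singleFunctor _ 0).map (CohCx.freeSheafMap J g) ≫ cls I p U f hf := by
  dsimp only [cls]
  rw [Cocycle.fromSingleMk_precomp, Cocycle.equivHomShift_symm_precomp, Functor.map_comp, Category.assoc]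
  rfl

lemma cls_add (U : C) (f g : CohCx.freeSheaf J U ⟶ I.X p) (hf : f ≫ I.d p (p + 1) = 0)
    (hg : g ≫ I.d p (p + 1) = 0) :
    cls I p U (f + g) (by rw [Preadditive.add_comp, hf, hg, add_zero]) = cls I p U f hf + cls I p U g hg := by
  dsimp only [cls]
  rw [Cocycle.fromSingleMk_add _ _ _ _ _ hf hg, map_add, Functor.map_add, Preadditive.add_comp]

lemma cls_congr (U : C) {f g : CohCx.freeSheaf J U ⟶ I.X p} (h : f = g) (hf : f ≫ I.d p (p + 1) = 0) :
    cls I p U f hf = cls I p U g (h ▸ hf) := by
  subst h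
  rfl

lemma q_map_bijective [I.IsKInjective] (K : CochainComplex (Sheaf J AddCommGrpCat.{u}) ℤ) :
    Function.Bijective (fun φ : (HomotopyCategory.quotient _ _).obj K ⟶
        (HomotopyCategory.quotient _ _).obj (I⟦p⟧) =>
      (DerivedCategory.quotientCompQhIso _).inv.app K ≫ DerivedCategory.Qh.map φ ≫
        (DerivedCategory.quotientCompQhIso _).hom.app (I⟦p⟧)) :=
  (Iso.homCongr ((DerivedCategory.quotientCompQhIso _).app K)
    ((DerivedCategory.quotientCompQhIso _).app (I⟦p⟧))).bijective.comp
      (CochainComplex.IsKInjective.Qh_map_bijective _ _)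

lemma q_map_eq {K : CochainComplex (Sheaf J AddCommGrpCat.{u}) ℤ} (h : K ⟶ I⟦p⟧) :
    (DerivedCategory.quotientCompQhIso _).inv.app K ≫
        DerivedCategory.Qh.map ((HomotopyCategory.quotient _ _).map h) ≫
        (DerivedCategory.quotientCompQhIso _).hom.app (I⟦p⟧) = DerivedCategory.Q.map h := by
  simp

lemma cls_eq_zero_iff [I.IsKInjective] (U : C) (f : CohCx.freeSheaf J U ⟶ I.X p) (hf : f ≫ I.d p (p + 1) = 0) :
    cls I p U f hf = 0 ↔ ∃ g : CohCx.freeSheaf J U ⟶ I.X (p - 1), g ≫ I.d (p - 1) p = f := by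
  rw [← Cocycle.fromSingleMk_mem_coboundaries_iff f (zero_add p) (p + 1) rfl hf (p - 1) (by lia),
    ← CohomologyClass.toHom_mk_eq_zero_iff, CohomologyClass.toHom_mk, cls,
    ← (q_map_bijective I p _).1.eq_iff (b := 0)]
  simp only [q_map_eq, Functor.map_zero, zero_comp, comp_zero]
  exact Preadditive.IsIso.comp_right_eq_zero _ _

lemma exists_cls_eq [I.IsKInjective] (U : C) (y : CohCx.HDU (DerivedCategory.Q.obj I) p U) :
    ∃ (f : CohCx.freeSheaf J U ⟶ I.X p) (hf : f ≫ I.d p (p + 1) = 0), cls I p U f hf = y := by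
  obtain ⟨φ, hφ⟩ := (q_map_bijective I p ((CochainComplex.singleFunctor _ 0).obj (CohCx.freeSheaf J U))).2
    (y ≫ (DerivedCategory.Q.commShiftIso p).inv.app I)
  obtain ⟨h, rfl⟩ := (HomotopyCategory.quotient _ _).map_surjective φ
  obtain ⟨f, hf, hc⟩ := Cocycle.fromSingleMk_surjective (Cocycle.equivHomShift h) p (zero_add p) (p + 1) rfl
  refine ⟨f, hf, ?_⟩
  simp only [q_map_eq] at hφ
  rw [cls, hc]
  erw [AddEquiv.symm_apply_apply]
  rw [hφ, Category.assoc, Iso.inv_hom_id_app]
  exact Category.comp_id _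

/-- The presheaf complex underlying a complex of sheaves. -/
noncomputable abbrev preCx : CochainComplex (Cᵒᵖ ⥤ AddCommGrpCat.{u}) ℤ :=
  ((sheafToPresheaf J AddCommGrpCat.{u}).mapHomologicalComplex _).obj I

lemma sect_cycle (U : Cᵒᵖ) (y : ((preCx I).cycles p).obj U) :
    (SiteCoh.homEquiv U.unop (I.X p)).symm (((preCx I).iCycles p).app U y) ≫ I.d p (p + 1) = 0 := by
  apply (SiteCoh.homEquiv U.unop (I.X (p + 1))).injective
  rw [SiteCoh.homEquiv_postcomp, AddEquiv.apply_symm_apply, map_zero]
  exact ConcreteCategory.congr_hom (congrArg (fun φ => φ.app U) ((preCx I).iCycles_d p (p + 1))) y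

/-- Cycles of sections give hypercohomology classes. -/
noncomputable def cycHom : (preCx I).cycles p ⟶ CohCx.HDUPresheaf (DerivedCategory.Q.obj I) p where
  app U := AddCommGrpCat.ofHom (AddMonoidHom.mk' (fun y => cls I p U.unop _ (sect_cycle I p U y))
    (fun y y' => by
      rw [← cls_add]
      exact cls_congr I p U.unop (by simp) _))
  naturality U V g := by
    ext y
    refine Eq.trans (cls_congr I p V.unop (g := CohCx.freeSheafMap J g.unop ≫
      (SiteCoh.homEquiv U.unop (I.X p)).symm (((preCx I).iCycles p).app U y)) ?_ _)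
      (cls_precomp I p g.unop _ (sect_cycle I p U y))
    apply (SiteCoh.homEquiv V.unop (I.X p)).injective
    rw [AddEquiv.apply_symm_apply, SiteCoh.homEquiv_precomp, AddEquiv.apply_symm_apply]
    exact ConcreteCategory.congr_hom (((preCx I).iCycles p).naturality g) y

lemma toCycles_cycHom [I.IsKInjective] : (preCx I).toCycles (p - 1) p ≫ cycHom I p = 0 := by
  ext U x
  refine (cls_eq_zero_iff I p U.unop _ (sect_cycle I p U _)).2
    ⟨(SiteCoh.homEquiv U.unop (I.X (p - 1))).symm x, ?_⟩
  apply (SiteCoh.homEquiv U.unop (I.X p)).injective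
  rw [SiteCoh.homEquiv_postcomp, AddEquiv.apply_symm_apply, AddEquiv.apply_symm_apply]
  exact (ConcreteCategory.congr_hom (congrArg (fun φ => φ.app U) ((preCx I).toCycles_i (p - 1) p)) x).symm

lemma iCycles_app_injective (U : Cᵒᵖ) : Function.Injective (((preCx I).iCycles p).app U) :=
  (AddCommGrpCat.mono_iff_injective _).1 inferInstance

lemma exists_cycle (U : Cᵒᵖ) (s : (I.X p).obj.obj U) (hs : (I.d p (p + 1)).hom.app U s = 0) :
    ∃ y, ((preCx I).iCycles p).app U y = s := by
  have hm := ((preCx I).cyclesIsKernel p (p + 1) (by simp))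
  have he : (ShortComplex.mk _ _ ((preCx I).iCycles_d p (p + 1))).Exact := ShortComplex.exact_of_f_is_kernel _ hm
  exact (ShortComplex.ab_exact_iff _).1 (he.map ((evaluation _ _).obj U)) s hs

omit [HasDerivedCategory (Sheaf J AddCommGrpCat.{u})] in
lemma exact_of_eval (S : ShortComplex (Cᵒᵖ ⥤ AddCommGrpCat.{u}))
    (h : ∀ U, (S.map ((evaluation _ _).obj U)).Exact) : S.Exact :=
  S.exact_iff_isZero_homology.2 (Functor.isZero _ fun U =>
    ((ShortComplex.exact_iff_isZero_homology _).1 (h U)).of_iso (S.mapHomologyIso ((evaluation _ _).obj U)).symm)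

/-- Hypercohomology presheaves of K-injective complexes are the homology presheaves of sections. -/
noncomputable def homologyIsoHDUPresheaf [I.IsKInjective] :
    (preCx I).homology p ≅ CohCx.HDUPresheaf (DerivedCategory.Q.obj I) p :=
  haveI : Epi (cycHom I p) := by
    haveI : ∀ U, Epi ((cycHom I p).app U) := fun U => (AddCommGrpCat.epi_iff_surjective _).2 fun y => by
      obtain ⟨f, hf, rfl⟩ := exists_cls_eq I p U.unop y
      obtain ⟨z, hz⟩ := exists_cycle I p U (SiteCoh.homEquiv U.unop (I.X p) f) (by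
        refine (SiteCoh.homEquiv_postcomp f (I.d p (p + 1))).symm.trans ?_
        rw [hf, map_zero])
      exact ⟨z, cls_congr I p U.unop (by rw [hz, AddEquiv.symm_apply_apply]) _⟩
    exact NatTrans.epi_of_epi_app _
  have he : (ShortComplex.mk _ _ (toCycles_cycHom I p)).Exact := by
    refine exact_of_eval _ fun U => ?_
    refine (ShortComplex.ab_exact_iff _).2 fun y hy => ?_
    obtain ⟨g, hg⟩ := (cls_eq_zero_iff I p U.unop _ (sect_cycle I p U y)).1 hy
    refine ⟨SiteCoh.homEquiv U.unop (I.X (p - 1)) g, iCycles_app_injective I p U ?_⟩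
    refine (ConcreteCategory.congr_hom (congrArg (fun φ => φ.app U) ((preCx I).toCycles_i (p - 1) p)) _).trans ?_
    refine ((SiteCoh.homEquiv_postcomp g (I.d (p - 1) p)).symm.trans ?_)
    rw [hg, AddEquiv.apply_symm_apply]
  ((preCx I).homologyIsCokernel (p - 1) p (by simp)).coconePointUniqueUpToIso he.gIsCokernel

end Groth.Agent.CohDer1.HyperPush
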